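import Groth.Agent.Lib.RLpsi8.Sigma
import Groth.Agent.Lib.RelProjK.TwistMap
import Groth.Agent.Lib.TildePull8.Dehom
import Groth.Agent.Lib.Cone8.TwistPull

/-!
# Fractions of homogeneous sections, read through the canonical morphism of an invertible module
-/

set_option autoImplicit false
set_option backward.isDefEq.respectTransparency false
set_option maxHeartbeats 400000

universe u

open CategoryTheory CategoryTheory.Limits AlgebraicGeometry TopologicalSpace Opposite HomogeneousLocalization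
open GrothLib.RelProjK (dg rs em vl onChart cm)
open GrothLib.RelCone8 (Pair gu)
open GrothLib.InvExt (IsGen mres)
open GrothLib.Ample (res res_res res_self Cocycle)
open GrothLib.RelTilde8.O (ev ev_res)

noncomputable section

namespace GrothLib.RLample8

open GrothLib.RLpsi8

theorem ev_awayToSection_mk {A σ : Type u} [CommRing A] [SetLike σ A] [AddSubgroupClass σ A] {𝒜 : ℕ → σ}
    [GradedRing 𝒜] {d : ℕ} {f : A} (hf : f ∈ 𝒜 d) (a : A) (ha : a ∈ 𝒜 d) (y : Proj.basicOpen 𝒜 f) :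
    ev y ((Proj.awayToSection 𝒜 f).hom (Away.mk 𝒜 hf 1 a (by simpa using ha))) =
      Localization.mk a (⟨f, y.2⟩ : y.1.asHomogeneousIdeal.toIdeal.primeCompl) := by
  show ((show GrTwist.O (𝒜 := 𝒜) (op (Proj.basicOpen 𝒜 f)) from
    (Proj.awayToSection 𝒜 f).hom (Away.mk 𝒜 hf 1 a (by simpa using ha))).1 y).val = _
  erw [ProjectiveSpectrum.Proj.awayToSection_apply]
  simp only [Away.val_mk, Localization.mk_eq_mk']
  erw [IsLocalization.map_mk']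
  simp

variable {Y X P PL : Scheme.{u}} {q : X ⟶ Y} {L : X.Modules} {𝒮 : RelProj.QCGrAlg Y} {𝒮L : RelProj.QCGrAlg X}
  {j : L ⟶ 𝒮L.toModule} (hLq : Coh.IsQCoh L) (hj : RelProj.IsGrSymAlg L 𝒮L j)
  (u : RelProj.QGrHom q 𝒮 𝒮L)
  {p : P ⟶ Y} {chart : ∀ (U : Y.Opens) (hU : IsAffineOpen U), (((p ⁻¹ᵁ U : P.Opens) : Scheme.{u}) ≅ Proj (𝒮.deg U hU))}
  {pL : PL ⟶ X}
  {chartL : ∀ (U : X.Opens) (hU : IsAffineOpen U), (((pL ⁻¹ᵁ U : PL.Opens) : Scheme.{u}) ≅ Proj (𝒮L.deg U hU))}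
  {g : X ⟶ P}
  (hg : RelProj.IsProjQMapOn u p chart pL chartL (RelProj.domQ u pL chartL) ((RelProj.domQ u pL chartL).ι ≫ pL ≫ g))

variable (p chart) in
/-- The open `D_+(F)` of `P` in the chart of `U`. -/
abbrev Dp (U : Y.AffineZariskiSite) (F : 𝒮.presheaf.obj (op U.1)) : P.Opens :=
  em p chart U ''ᵁ Proj.basicOpen (dg 𝒮 U) F

theorem Dp_le (U : Y.AffineZariskiSite) (F : 𝒮.presheaf.obj (op U.1)) : Dp p chart U F ≤ p ⁻¹ᵁ U.1 := by
  rintro _ ⟨w, -, rfl⟩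
  exact (RelProjK.mem_opensRange_em U).mp ⟨w, rfl⟩

theorem notMem_of_mem_Dp {U : Y.AffineZariskiSite} {F : 𝒮.presheaf.obj (op U.1)} {y : ProjectiveSpectrum (dg 𝒮 U)}
    (hy : em p chart U y ∈ Dp p chart U F) : F ∉ y.asHomogeneousIdeal := by
  obtain ⟨w, hw, e⟩ := hy
  obtain rfl := (em p chart U).isOpenEmbedding.injective e
  exact hw

include hg in
theorem le_preimage_Dp (hPL : RelProj.IsRelProj 𝒮L pL chartL) (U : Y.AffineZariskiSite) (t : Triv L)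
    (h : t.V.1 ≤ q ⁻¹ᵁ U.1) {m : ℕ} (hm : 0 < m) {F : 𝒮.presheaf.obj (op U.1)} (hF : F ∈ dg 𝒮 U m)
    (hu : IsUnit (psi hLq hj u U t h F)) : t.V.1 ≤ g ⁻¹ᵁ Dp p chart U F := by
  intro x hx
  obtain ⟨z, rfl⟩ : x ∈ Set.range t.V.2.fromSpec.base := t.V.2.range_fromSpec.symm ▸ hx
  show g (t.V.2.fromSpec z) ∈ Dp p chart U F
  rw [← Scheme.Hom.comp_apply, fromSpec_comp hLq hj u hg U t h hm hF hu hPL]
  show _ ∈ em p chart U ''ᵁ Proj.basicOpen (dg 𝒮 U) F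
  rw [← opensRange_sEmb U hm hF, Scheme.Hom.comp_apply]
  exact ⟨_, rfl⟩

theorem appLE_fromSpec_self {Z : Scheme.{u}} {V : Z.Opens} (hV : IsAffineOpen V) (e : ⊤ ≤ hV.fromSpec ⁻¹ᵁ V) :
    hV.fromSpec.appLE V ⊤ e = (Scheme.ΓSpecIso Γ(Z, V)).inv := by
  rw [Scheme.Hom.appLE, hV.fromSpec_app_self, Category.assoc, ← Functor.map_comp,
    Subsingleton.elim (_ ≫ (homOfLE e).op) (𝟙 _), CategoryTheory.Functor.map_id, Category.comp_id]

/-- A function on the image of a standard open, pulled back along a map factoring through it. -/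
theorem appLE_appIso_inv_awayToSection {A σ : Type u} [CommRing A] [SetLike σ A] [AddSubgroupClass σ A] {𝒜 : ℕ → σ}
    [GradedRing 𝒜] {Z Q : Scheme.{u}} (e : Proj 𝒜 ⟶ Q) [IsOpenImmersion e] {d : ℕ} {f : A} (hf : f ∈ 𝒜 d)
    (hd : 0 < d) {V : Z.Opens} (hV : IsAffineOpen V) (k : Z ⟶ Q) (hle : V ≤ k ⁻¹ᵁ (e ''ᵁ Proj.basicOpen 𝒜 f))
    (κ : Away 𝒜 f →+* Γ(Z, V))
    (hfac : hV.fromSpec ≫ k = Spec.map (CommRingCat.ofHom κ) ≫ Proj.awayι 𝒜 f hf hd ≫ e) (z : Away 𝒜 f) :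
    (k.appLE _ V hle).hom ((e.appIso (Proj.basicOpen 𝒜 f)).inv ((Proj.awayToSection 𝒜 f).hom z)) = κ z := by
  let B : (Proj 𝒜).Opens := Proj.basicOpen 𝒜 f
  have e0 : (⊤ : (Spec Γ(Z, V)).Opens) ≤ hV.fromSpec ⁻¹ᵁ V :=
    fun z _ => (hV.range_fromSpec ▸ ⟨z, rfl⟩ : hV.fromSpec z ∈ (V : Set Z))
  have hB : B ≤ e ⁻¹ᵁ (e ''ᵁ B) := (e.preimage_image_eq B).ge
  have hi : (⊤ : (Spec (CommRingCat.of (Away 𝒜 f))).Opens) ≤ Proj.awayι 𝒜 f hf hd ⁻¹ᵁ B := fun z _ => by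
    show Proj.awayι 𝒜 f hf hd z ∈ B
    rw [show B = (Proj.awayι 𝒜 f hf hd).opensRange from (Proj.opensRange_awayι 𝒜 f hf hd).symm]
    exact ⟨z, rfl⟩
  have hc : ∀ c₀, (e.appLE (e ''ᵁ B) B hB).hom ((e.appIso B).inv c₀) = c₀ := fun c₀ => by
    rw [← Scheme.Hom.appIso_hom' e B]
    exact congr($((e.appIso B).inv_hom_id) c₀)
  have e2 : hV.fromSpec.appLE V ⊤ e0 ((k.appLE _ V hle) ((e.appIso B).inv ((Proj.awayToSection 𝒜 f).hom z))) =
      (Scheme.ΓSpecIso _).inv (κ z) := by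
    rw [← ConcreteCategory.comp_apply, Scheme.Hom.appLE_comp_appLE]
    simp only [hfac]
    rw [← Scheme.Hom.appLE_comp_appLE (Spec.map (CommRingCat.ofHom κ)) (Proj.awayι 𝒜 f hf hd ≫ e) (e ''ᵁ B) ⊤ ⊤
      (fun z _ => hB (hi (x := z) trivial)) le_top,
      ← Scheme.Hom.appLE_comp_appLE (Proj.awayι 𝒜 f hf hd) e (e ''ᵁ B) B ⊤ hB hi]
    simp only [CommRingCat.comp_apply]
    rw [hc, ← CommRingCat.comp_apply (Proj.awayToSection 𝒜 f) ((Proj.awayι 𝒜 f hf hd).appLE B ⊤ hi),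
      Cone8.appLE_awayι_awayToSection]
    simp only [homOfLE_refl, op_id, CategoryTheory.Functor.map_id, Category.comp_id]
    exact congr($((Scheme.ΓSpecIso_inv_naturality (CommRingCat.ofHom κ)).symm) _)
  rw [appLE_fromSpec_self] at e2
  exact (Scheme.ΓSpecIso Γ(Z, V)).symm.commRingCatIsoToRingEquiv.injective e2

theorem ev_app_appIso_inv {A σ : Type u} [CommRing A] [SetLike σ A] [AddSubgroupClass σ A] {𝒜 : ℕ → σ}
    [GradedRing 𝒜] {Q : Scheme.{u}} (e : Proj 𝒜 ⟶ Q) [IsOpenImmersion e] (B : (Proj 𝒜).Opens) (r : Γ(Proj 𝒜, B))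
    (y : ProjectiveSpectrum 𝒜) (hy : y ∈ e ⁻¹ᵁ (e ''ᵁ B)) (hy' : y ∈ B) :
    ev (⟨y, hy⟩ : (e ⁻¹ᵁ (e ''ᵁ B) : (Proj 𝒜).Opens)) (e.app (e ''ᵁ B) ((e.appIso B).inv r)) = ev ⟨y, hy'⟩ r := by
  rw [show e.app (e ''ᵁ B) ((e.appIso B).inv r) = res (e.preimage_image_eq B).le r from
    congr($(e.appIso_inv_app B) r)]
  exact ev_res _ _ _

include hg in
/-- The ratio of two homogeneous sections of the same degree, as a function on `P` and on `X`. -/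
theorem exists_ratio (hPL : RelProj.IsRelProj 𝒮L pL chartL) (U : Y.AffineZariskiSite) (t : Triv L)
    (h : t.V.1 ≤ q ⁻¹ᵁ U.1) {m : ℕ} (hm : 0 < m) {E F : 𝒮.presheaf.obj (op U.1)} (hE : E ∈ dg 𝒮 U m)
    (hF : F ∈ dg 𝒮 U m) (hu : IsUnit (psi hLq hj u U t h F)) :
    ∃ (c : Γ(P, Dp p chart U F)) (hle : t.V.1 ≤ g ⁻¹ᵁ Dp p chart U F),
      (∀ (y : ProjectiveSpectrum (dg 𝒮 U)) (hy : em p chart U y ∈ Dp p chart U F),
        ev (⟨y, hy⟩ : (em p chart U ⁻¹ᵁ Dp p chart U F : (Proj (dg 𝒮 U)).Opens)) ((em p chart U).app _ c) =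
          Localization.mk E (⟨F, notMem_of_mem_Dp hy⟩ : y.asHomogeneousIdeal.toIdeal.primeCompl)) ∧
      (g.appLE (Dp p chart U F) t.V.1 hle).hom c * psi hLq hj u U t h F = psi hLq hj u U t h E := by
  let z : Away (dg 𝒮 U) F := Away.mk (dg 𝒮 U) hF 1 E (by simpa using hE)
  have hle := le_preimage_Dp hLq hj u hg hPL U t h hm hF hu
  refine ⟨((em p chart U).appIso (Proj.basicOpen (dg 𝒮 U) F)).inv ((Proj.awayToSection (dg 𝒮 U) F).hom z), hle,
    fun y hy => ?_, ?_⟩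
  · rw [ev_app_appIso_inv (em p chart U) _ _ y hy (notMem_of_mem_Dp hy)]
    exact ev_awayToSection_mk hF E hE ⟨y, notMem_of_mem_Dp hy⟩
  · rw [appLE_appIso_inv_awayToSection (em p chart U) hF hm t.V.2 g hle
      (ProjPt.evalAway (dg 𝒮 U) (psi hLq hj u U t h) F hu) (fromSpec_comp hLq hj u hg U t h hm hF hu hPL) z]
    have h1 := ProjPt.evalAway_mk_spec (dg 𝒮 U) (psi hLq hj u U t h) hF hu 1 E (by simpa using hE)
    rwa [pow_one] at h1

theorem vl_smul {n : ℤ} {U : Y.AffineZariskiSite} {W : P.Opens} (r : Γ(P, W)) (v : Γ(RelProjK.Tw p chart n U, W))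
    (y : ProjectiveSpectrum (dg 𝒮 U)) (hy : em p chart U y ∈ W) :
    vl (r • v) y hy = ev (⟨y, hy⟩ : (em p chart U ⁻¹ᵁ W : (Proj (dg 𝒮 U)).Opens)) ((em p chart U).app W r) * vl v y hy := rfl

variable {c : Cocycle X} (φ : L ≅ c.twist 1)

/-- Change of frame. -/
theorem psi_change (U : Y.AffineZariskiSite) {V : X.Opens} (hV : IsAffineOpen V) (hVU : V ≤ q ⁻¹ᵁ U.1) (i k : c.ι)
    (hi : V ≤ c.D i) (hk : V ≤ c.D k) {d : ℕ} {A : 𝒮.presheaf.obj (op U.1)} (hA : A ∈ dg 𝒮 U d) :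
    (show Γ(X, V) from psi hLq hj u U (ctriv φ i hi hV) hVU A) =
      (show Γ(X, V) from psi hLq hj u U (ctriv φ k hk hV) hVU A) * c.G i k hi hk ^ d := by
  have e := gu_eq hLq hj u U (ctriv φ k hk hV) hVU hA
  rw [T_ctriv, Tg_change φ i k hi hk, mul_pow, ← map_pow (𝒮L.str.app (op V)).hom] at e
  rw [psi_apply]
  show coef hLq hj (ctriv φ i hi hV) (gu u (tp U (ctriv φ k hk hV) hVU) A) = _
  have e' : gu u (tp U (ctriv φ k hk hV) hVU) A = (𝒮L.str.app (op V)).hom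
      ((show Γ(X, V) from psi hLq hj u U (ctriv φ k hk hV) hVU A) * c.G i k hi hk ^ d) * Tg j φ i hi ^ d := by
    refine e.trans ?_
    rw [map_mul]
    exact (mul_assoc _ _ _).symm
  exact (congrArg (coef hLq hj (ctriv φ i hi hV)) e').trans (coef_eq φ hLq hj i hi hV _)

/-- Restriction of the frame and of the base. -/
theorem psi_sub {U E : Y.AffineZariskiSite} (hE : E ≤ U) {V V' : X.Opens} (hV : IsAffineOpen V) (hV' : IsAffineOpen V')
    (hVV : V' ≤ V) (hVU : V ≤ q ⁻¹ᵁ U.1) (hVE : V' ≤ q ⁻¹ᵁ E.1) (i : c.ι) (hi : V ≤ c.D i) {d : ℕ}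
    {A : 𝒮.presheaf.obj (op U.1)} (hA : A ∈ dg 𝒮 U d) :
    psi hLq hj u E (ctriv φ i (hVV.trans hi) hV') hVE (rs 𝒮 hE A) =
      res hVV (psi hLq hj u U (ctriv φ i hi hV) hVU A) := by
  have e1 : gu u (tp E (ctriv φ i (hVV.trans hi) hV') hVE) (rs 𝒮 hE A) =
      ares 𝒮L hVV (gu u (tp U (ctriv φ i hi hV) hVU) A) := by
    show (𝒮.presheaf.map _ ≫ u.appLE E.1 V' hVE).hom A = (u.appLE U.1 V hVU ≫ 𝒮L.presheaf.map _).hom A
    rw [u.map_appLE, u.appLE_map]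
  rw [psi_apply]
  show coef hLq hj (ctriv φ i (hVV.trans hi) hV') (gu u (tp E (ctriv φ i (hVV.trans hi) hV') hVE) (rs 𝒮 hE A)) = _
  rw [e1, gu_eq hLq hj u U (ctriv φ i hi hV) hVU hA]
  have e2 : ares 𝒮L hVV ((𝒮L.str.app (op V)).hom (psi hLq hj u U (ctriv φ i hi hV) hVU A) * Tg j φ i hi ^ d) =
      (𝒮L.str.app (op V')).hom (res hVV (psi hLq hj u U (ctriv φ i hi hV) hVU A)) *
        Tg j φ i (hVV.trans hi) ^ d := by
    rw [map_mul, map_pow, ares_str, ares_Tg]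
  exact (congrArg (coef hLq hj (ctriv φ i (hVV.trans hi) hV')) e2).trans
    (coef_eq φ hLq hj i (hVV.trans hi) hV' _)

variable {n : ℕ} {On : P.Modules}
  {lamn : ∀ (U : Y.Opens) (hU : IsAffineOpen U),
    On ⟶ (Scheme.Modules.pushforward (RelProj.emb p chart U hU)).obj (GrTwist.twist (𝒮.deg U hU) (n : ℤ))}
  (hP : RelProj.IsRelProj 𝒮 p chart) (hOn : RelProj.IsRelTwist 𝒮 p chart (n : ℤ) On lamn)

variable (lamn) in
/-- The section reads `A / B` on the chart of `U`. -/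
def IsFrac (U : Y.AffineZariskiSite) {W : P.Opens} (s : Γ(On, W)) (A B : 𝒮.presheaf.obj (op U.1)) : Prop :=
  ∀ (y : ProjectiveSpectrum (dg 𝒮 U)) (hy : em p chart U y ∈ W), ∃ hB : B ∉ y.asHomogeneousIdeal,
    vl (onChart lamn U s) y hy = Localization.mk A (⟨B, hB⟩ : y.asHomogeneousIdeal.toIdeal.primeCompl)

theorem IsFrac.mono {U : Y.AffineZariskiSite} {W : P.Opens} {s : Γ(On, W)} {A B : 𝒮.presheaf.obj (op U.1)}
    (hs : IsFrac lamn U s A B) {W' : P.Opens} (h : W' ≤ W) : IsFrac lamn U (mres On h s) A B := fun y hy => by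
  obtain ⟨hB, e⟩ := hs y (h hy)
  refine ⟨hB, ?_⟩
  rw [show onChart lamn U (mres On h s) = RelProjK.tr _ h (onChart lamn U s) from
    RelProjK.app_tr (lamn U.1 U.2) h s]
  exact e

include hP hOn in
theorem IsFrac.res {U E : Y.AffineZariskiSite} (hE : E ≤ U) {W : P.Opens} {s : Γ(On, W)}
    {A B : 𝒮.presheaf.obj (op U.1)} (hs : IsFrac lamn U s A B) : IsFrac lamn E s (rs 𝒮 hE A) (rs 𝒮 hE B) := by
  intro y hy
  obtain ⟨hB, e⟩ := hs _ ((RelProjK.em_comap hP hE y).symm ▸ hy)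
  refine ⟨hB, ?_⟩
  have h1 : vl ((cm hP (n : ℤ) hE).app W (onChart lamn U s)) y hy = vl (onChart lamn E s) y hy :=
    congrArg (fun v => vl v y hy) (RelProjK.isFam_of_isRelTwist hP (n : ℤ) hOn s U E hE)
  rw [← h1, RelProjK.vl_cm, e]
  exact GrTwist.locMap_mk _ _ _ _ _

include hg hP hOn in
/-- Two fractions over one trivialization. -/
theorem exists_transition (hPL : RelProj.IsRelProj 𝒮L pL chartL) (U : Y.AffineZariskiSite) (t : Triv L)
    (h : t.V.1 ≤ q ⁻¹ᵁ U.1) {a b a' b' : ℕ} (hb' : 0 < b') (hd : (a : ℤ) = b + n) (hd' : (a' : ℤ) = b' + n)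
    {A B A' B' : 𝒮.presheaf.obj (op U.1)} (hA : A ∈ dg 𝒮 U a) (hB : B ∈ dg 𝒮 U b) (hA' : A' ∈ dg 𝒮 U a')
    (hB' : B' ∈ dg 𝒮 U b') (hu : IsUnit (psi hLq hj u U t h (A * B'))) {W : P.Opens} (hWU : W ≤ p ⁻¹ᵁ U.1)
    (hW : W ≤ Dp p chart U (A * B')) (hgW : t.V.1 ≤ g ⁻¹ᵁ W) {s s' : Γ(On, W)} (hs : IsFrac lamn U s A B)
    (hs' : IsFrac lamn U s' A' B') :
    ∃ r : Γ(P, W), s' = r • s ∧
      (g.appLE W t.V.1 hgW).hom r * psi hLq hj u U t h (A * B') = psi hLq hj u U t h (A' * B) := by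
  have hF : A * B' ∈ dg 𝒮 U (a + b') := SetLike.mul_mem_graded hA hB'
  have hE : A' * B ∈ dg 𝒮 U (a + b') := by
    rw [show a + b' = a' + b by omega]
    exact SetLike.mul_mem_graded hA' hB
  obtain ⟨c, hle, hev, hmul⟩ := exists_ratio hLq hj u hg hPL U t h (Nat.add_pos_right _ hb') hE hF hu
  refine ⟨res hW c, (hOn.bijective U.1 U.2 W hWU).1 ?_, ?_⟩
  · show onChart lamn U s' = onChart lamn U (res hW c • s)
    rw [RelProjK.onChart_smul]
    refine RelProjK.vl_ext fun y hy => ?_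
    obtain ⟨hyB, e⟩ := hs y hy
    obtain ⟨hyB', e'⟩ := hs' y hy
    have hev' : ev (⟨y, hy⟩ : (em p chart U ⁻¹ᵁ W : (Proj (dg 𝒮 U)).Opens)) ((em p chart U).app W (res hW c)) =
        ev (⟨y, hW hy⟩ : (em p chart U ⁻¹ᵁ Dp p chart U (A * B') : (Proj (dg 𝒮 U)).Opens))
          ((em p chart U).app _ c) := by
      rw [show (em p chart U).app W (res hW c) = (Proj (dg 𝒮 U)).presheaf.map
        (homOfLE ((em p chart U).preimage_mono hW)).op ((em p chart U).app _ c) from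
        congr($((em p chart U).naturality (homOfLE hW).op) c)]
      exact ev_res _ _ _
    rw [vl_smul, hev', hev y (hW hy), e, e', Localization.mk_mul, Localization.mk_eq_mk_iff,
      Localization.r_iff_exists]
    exact ⟨1, by simp only [OneMemClass.coe_one, Submonoid.coe_mul]; ring⟩
  · exact (congrArg (· * psi hLq hj u U t h (A * B')) (Ample.appLE_res g hW hgW c)).trans hmul

end GrothLib.RLample8
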