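import Groth.Agent.Lib.RLample8.Frac

/-!
# The inverse image of `O(n)` along the morphism of a relatively ample module
-/

set_option autoImplicit false
set_option backward.isDefEq.respectTransparency false
set_option maxHeartbeats 400000

universe u

open CategoryTheory CategoryTheory.Limits AlgebraicGeometry TopologicalSpace Opposite HomogeneousLocalization
open GrothLib.RelProjK (dg rs em vl onChart)
open GrothLib.InvExt (IsGen mres)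
open GrothLib.Ample (res res_res res_self Cocycle)

noncomputable section

namespace GrothLib.RLample8

open GrothLib.RLpsi8

theorem transfer {X : Scheme.{u}} {M N : X.Modules} {W : X.Opens} (t t' : Γ(M, W)) (ht : IsGen M W t)
    (m m' : Γ(N, W))
    (h : ∀ w ∈ W, ∃ (W' : X.Opens) (hW : W' ≤ W), w ∈ W' ∧ ∃ r : Γ(X, W'),
      mres M hW t' = r • mres M hW t ∧ mres N hW m' = r • mres N hW m)
    (a : Γ(X, W)) (e : t' = a • t) : m' = a • m := by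
  choose W' hW hwW r hr hm using fun w : W => h w.1 w.2
  refine Ample.meq_of_cover N W' hW (fun w hw => Opens.mem_iSup.mpr ⟨⟨w, hw⟩, hwW ⟨w, hw⟩⟩) fun w => ?_
  have h1 := hr w
  rw [e, Ample.mres_smul'] at h1
  rw [Ample.mres_smul', hm w, (ht.smul_left_injective (hW w) h1)]

variable {Y X P PL : Scheme.{u}} {q : X ⟶ Y} {L : X.Modules} {𝒮 : RelProj.QCGrAlg Y} {𝒮L : RelProj.QCGrAlg X}
  {j : L ⟶ 𝒮L.toModule} (hL : PicF.IsInvertible L) (hLq : Coh.IsQCoh L) (hj : RelProj.IsGrSymAlg L 𝒮L j)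
  (u : RelProj.QGrHom q 𝒮 𝒮L)
  {p : P ⟶ Y} {chart : ∀ (U : Y.Opens) (hU : IsAffineOpen U), (((p ⁻¹ᵁ U : P.Opens) : Scheme.{u}) ≅ Proj (𝒮.deg U hU))}
  {pL : PL ⟶ X}
  {chartL : ∀ (U : X.Opens) (hU : IsAffineOpen U), (((pL ⁻¹ᵁ U : PL.Opens) : Scheme.{u}) ≅ Proj (𝒮L.deg U hU))}
  {g : X ⟶ P} {c : Cocycle X} (φ : L ≅ c.twist 1) (n : ℕ)

include hL hLq hj in
theorem isUnit_psi_of_le_XS (U : Y.AffineZariskiSite) (t : Triv L) (h : t.V.1 ≤ q ⁻¹ᵁ U.1) {m : ℕ}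
    {s : 𝒮.presheaf.obj (op U.1)} (hs : s ∈ dg 𝒮 U m) (hle : t.V.1 ≤ XS u U m s) :
    IsUnit (psi hLq hj u U t h s) :=
  X.toRingedSpace.isUnit_of_isUnit_germ _ _ fun x hx =>
    (X.mem_basicOpen _ x hx).mp ((mem_XS_iff hL hLq hj u U t h hs hx).mp (hle hx))

variable (hu : ∀ (U : Y.Opens), IsAffineOpen U → Function.Bijective (u.app U).hom)

include hL hLq hj hu φ in
theorem exists_elt_of_sect (U : Y.AffineZariskiSite) {N : ℕ} (a' : (c.comap (q ⁻¹ᵁ U.1).ι).sect N ⊤) :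
    ∃ s ∈ dg 𝒮 U N, (q ⁻¹ᵁ U.1).ι ''ᵁ (c.comap (q ⁻¹ᵁ U.1).ι).locus a' = XS u U N s := by
  obtain ⟨β, rfl⟩ := (c.bijective_pullSect (q ⁻¹ᵁ U.1).ι (n := N) ⊤).2 a'
  have hW0 : (q ⁻¹ᵁ U.1).ι ''ᵁ ⊤ ≤ q ⁻¹ᵁ U.1 := by rw [Scheme.Opens.ι_image_top]
  have hW1 : q ⁻¹ᵁ U.1 ≤ (q ⁻¹ᵁ U.1).ι ''ᵁ ⊤ := by rw [Scheme.Opens.ι_image_top]
  obtain ⟨z, hz⟩ := exists_rel_of_sect φ (j := j) (𝒮L := 𝒮L) β
  obtain ⟨s, hsz⟩ := (bijective_appLE u hu U).2 (ares 𝒮L hW1 z)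
  have hr : Rel j φ ((u.appLE U.1 ((q ⁻¹ᵁ U.1).ι ''ᵁ ⊤) hW0).hom s) β := by
    rw [← ares_appLE u U.1 (le_refl (q ⁻¹ᵁ U.1)) hW0, hsz, ares_ares]
    intro i V hVW hVi
    rw [ares_ares]
    exact hz i V hVW hVi
  have hs : s ∈ dg 𝒮 U N := mem_deg_of_local (L := L) u hu U fun y hy => by
    obtain ⟨i, V, hV, hVi, hVW, hyV⟩ := exists_ctriv (c := c) (W := (q ⁻¹ᵁ U.1).ι ''ᵁ ⊤) (hW1 hy)
    refine ⟨ctriv φ i hVi hV, hVW.trans hW0, hyV, ?_⟩
    show (u.appLE U.1 V (hVW.trans hW0)).hom s ∈ 𝒮L.deg V hV N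
    rw [← ares_appLE u U.1 hW0 hVW, hr i V hVW hVi]
    have := SetLike.mul_mem_graded (A := dg 𝒮L ⟨V, hV⟩) (𝒮L.str_mem V hV (res (le_inf hVW hVi) (β.1 i)))
      (SetLike.pow_mem_graded N (T_mem hj (ctriv φ i hVi hV)))
    simpa [T_ctriv] using this
  exact ⟨s, hs, XS_eq_image_locus hL hLq hj u φ U hW0 hs hr⟩

/-- A fraction of degree `n` that is invertible on an affine open inside a piece of the cocycle. -/
structure Datum where
  i : c.ι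
  U : Y.AffineZariskiSite
  V : X.Opens
  hV : IsAffineOpen V
  hVi : V ≤ c.D i
  hVU : V ≤ q ⁻¹ᵁ U.1
  a : ℕ
  b : ℕ
  hb : 0 < b
  hd : (a : ℤ) = b + n
  A : 𝒮.presheaf.obj (op U.1)
  B : 𝒮.presheaf.obj (op U.1)
  hA : A ∈ dg 𝒮 U a
  hB : B ∈ dg 𝒮 U b
  uA : IsUnit (psi hLq hj u U (ctriv φ i hVi hV) hVU A)
  uB : IsUnit (psi hLq hj u U (ctriv φ i hVi hV) hVU B)

include hL hu in
theorem exists_datum (h : RelAmple.IsRelAmple q L) (x : X) :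
    ∃ τ : Datum hLq hj u φ n, x ∈ τ.V := by
  haveI := h.1
  obtain ⟨O, hO, hxO, -⟩ := exists_isAffineOpen_mem_and_subset (Opens.mem_top (q x))
  let U : Y.AffineZariskiSite := ⟨O, hO⟩
  let W : X.Opens := q ⁻¹ᵁ U.1
  obtain ⟨d⟩ := c.nonempty_restrict_iso W.ι φ
  obtain ⟨hWc, hamp⟩ := ((c.comap W.ι).isAmple_iff d).mp (h.2 ⟨O, hO⟩)
  haveI := hWc
  let c' := c.comap W.ι
  haveI := c'.quasiSeparatedSpace_of_isAmp hamp
  obtain ⟨i, hi⟩ := c'.exists_mem ⟨x, hxO⟩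
  obtain ⟨k, a', hxa, hai, -⟩ := c'.exists_affine_locus_le hamp hi
  obtain ⟨m, b, hb⟩ := c'.exists_extend_sect a' (c'.base n i hai)
  have hxb : (⟨x, hxO⟩ : W) ∈ c'.locus b := by
    have e := congrArg (fun t : c'.sect (n + (k + 1) * m) (c'.locus a') => t.1 i) hb
    simp only [Cocycle.sectRes_apply, Cocycle.powMul_apply, Cocycle.base_self, map_one, one_mul] at e
    have hx' : (⟨x, hxO⟩ : W) ∈ (W : Scheme.{u}).basicOpen
        (res (inf_le_inf_right (c'.D i) (le_top : c'.locus a' ≤ ⊤)) (a'.1 i) ^ m) := by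
      have h1 : (⟨x, hxO⟩ : W) ∈ (W : Scheme.{u}).basicOpen
          (res (inf_le_inf_right (c'.D i) (le_top : c'.locus a' ≤ ⊤)) (a'.1 i)) := by
        rw [res, Scheme.basicOpen_res]
        exact ⟨⟨hxa, hi⟩, (c'.mem_locus_iff a' hi).mp hxa⟩
      rcases Nat.eq_zero_or_pos m with hm | hm
      · subst hm
        rw [pow_zero, Scheme.basicOpen_of_isUnit _ isUnit_one]
        exact ⟨hxa, hi⟩
      · rw [Scheme.basicOpen_pow _ _ hm]
        exact h1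
    rw [← e, res, Scheme.basicOpen_res] at hx'
    exact (c'.mem_locus_iff b hi).mpr hx'.2
  obtain ⟨A, hA, eA⟩ := exists_elt_of_sect hL hLq hj u φ hu U (c'.mul b a')
  obtain ⟨B, hB, eB⟩ := exists_elt_of_sect hL hLq hj u φ hu U (c'.sectPow a' (m + 1))
  have hxA : x ∈ XS u U (n + (k + 1) * m + (k + 1)) A := by
    rw [← eA]
    exact ⟨⟨x, hxO⟩, by rw [c'.locus_mul]; exact ⟨hxb, hxa⟩, rfl⟩
  have hxB : x ∈ XS u U ((k + 1) * (m + 1)) B := by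
    rw [← eB]
    exact ⟨⟨x, hxO⟩, by rw [c'.locus_sectPow _ m.succ_pos]; exact hxa, rfl⟩
  obtain ⟨l, hl⟩ := c.exists_mem x
  obtain ⟨V, hV, hxV, hle⟩ := exists_isAffineOpen_mem_and_subset
    (x := x) (U := c.D l ⊓ (XS u U (n + (k + 1) * m + (k + 1)) A ⊓ XS u U ((k + 1) * (m + 1)) B)) ⟨hl, hxA, hxB⟩
  have hVl : V ≤ c.D l := fun z hz => (hle hz).1
  have hVA : V ≤ XS u U (n + (k + 1) * m + (k + 1)) A := fun z hz => (hle hz).2.1
  have hVB : V ≤ XS u U ((k + 1) * (m + 1)) B := fun z hz => (hle hz).2.2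
  exact ⟨{ i := l, U := U, V := V, hV := hV, hVi := hVl, hVU := hVA.trans (XS_le u U (n + (k + 1) * m + (k + 1)) A)
           a := n + (k + 1) * m + (k + 1), b := (k + 1) * (m + 1), hb := Nat.mul_pos k.succ_pos m.succ_pos
           hd := by push_cast; ring
           A := A, B := B, hA := hA, hB := hB
           uA := isUnit_psi_of_le_XS hL hLq hj u U (ctriv φ l hVl hV) _ hA hVA
           uB := isUnit_psi_of_le_XS hL hLq hj u U (ctriv φ l hVl hV) _ hB hVB }, hxV⟩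

variable {hLq hj u φ n} (τ : Datum hLq hj u φ n)

/-- `ψ A`. -/
def Datum.pA : Γ(X, τ.V) := psi hLq hj u τ.U (ctriv φ τ.i τ.hVi τ.hV) τ.hVU τ.A

/-- `ψ B`. -/
def Datum.pB : Γ(X, τ.V) := psi hLq hj u τ.U (ctriv φ τ.i τ.hVi τ.hV) τ.hVU τ.B

theorem Datum.isUnit_pA : IsUnit τ.pA := τ.uA

theorem Datum.isUnit_pB : IsUnit τ.pB := τ.uB

/-- The ratio `ψ A / ψ B`. -/
def Datum.ratio : Γ(X, τ.V) := τ.pA * (↑τ.isUnit_pB.unit⁻¹ : Γ(X, τ.V))

theorem Datum.ratio_mul : τ.ratio * τ.pB = τ.pA := by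
  show τ.pA * _ * τ.pB = _
  rw [mul_assoc, τ.isUnit_pB.val_inv_mul, mul_one]

theorem Datum.isUnit_ratio : IsUnit τ.ratio := τ.isUnit_pA.mul (τ.isUnit_pB.unit⁻¹).isUnit

/-- The generator of the power of `L`. -/
def Datum.genL : Γ(c.twist n, τ.V) := τ.ratio • (show Γ(c.twist n, τ.V) from c.base n τ.i τ.hVi)

theorem Datum.isGen_genL : IsGen (c.twist n) τ.V τ.genL := (c.isGen_base n τ.i τ.hVi).smul_unit τ.isUnit_ratio

variable (hg : RelProj.IsProjQMapOn u p chart pL chartL (RelProj.domQ u pL chartL) ((RelProj.domQ u pL chartL).ι ≫ pL ≫ g))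
  (hPL : RelProj.IsRelProj 𝒮L pL chartL)

variable (p chart) in
/-- The open of `P` of a datum. -/
abbrev Datum.Wp : P.Opens := Dp p chart τ.U (τ.A * τ.B)

include hg hPL in
theorem Datum.le_preimage_Wp : τ.V ≤ g ⁻¹ᵁ τ.Wp p chart :=
  le_preimage_Dp hLq hj u hg hPL τ.U (ctriv φ τ.i τ.hVi τ.hV) τ.hVU (Nat.add_pos_right _ τ.hb)
    (SetLike.mul_mem_graded τ.hA τ.hB) (by rw [map_mul]; exact τ.uA.mul τ.uB)

variable [IsOpenImmersion g]

include hg hPL in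
theorem Datum.image_le_Wp {V : X.Opens} (hV : V ≤ τ.V) : g ''ᵁ V ≤ τ.Wp p chart := by
  rintro _ ⟨x, hx, rfl⟩
  exact τ.le_preimage_Wp hg hPL (hV hx)

variable {On : P.Modules}
  {lamn : ∀ (U : Y.Opens) (hU : IsAffineOpen U),
    On ⟶ (Scheme.Modules.pushforward (RelProj.emb p chart U hU)).obj (GrTwist.twist (𝒮.deg U hU) (n : ℤ))}
  (hP : RelProj.IsRelProj 𝒮 p chart) (hOn : RelProj.IsRelTwist 𝒮 p chart (n : ℤ) On lamn)

include hOn in
theorem Datum.exists_sec : ∃ s : Γ(On, τ.Wp p chart), IsFrac lamn τ.U s τ.A τ.B ∧ IsGen On (τ.Wp p chart) s := by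
  have nin : ∀ (w : ProjectiveSpectrum (dg 𝒮 τ.U)), em p chart τ.U w ∈ τ.Wp p chart →
      τ.A ∉ w.asHomogeneousIdeal ∧ τ.B ∉ w.asHomogeneousIdeal := fun w hw =>
    ⟨fun h => notMem_of_mem_Dp hw (Ideal.mul_mem_right _ _ h), fun h => notMem_of_mem_Dp hw (Ideal.mul_mem_left _ _ h)⟩
  obtain ⟨s, hs⟩ := (hOn.bijective τ.U.1 τ.U.2 (τ.Wp p chart) (Dp_le τ.U _)).2
    (RelProjK.ofSec (RelProjK.fracSec τ.A τ.B τ.hA τ.hB (fun w => (nin w.1 w.2).2) τ.hd))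
  have hv : ∀ w hw, vl (onChart lamn τ.U s) w hw = Localization.mk τ.A ⟨τ.B, (nin w hw).2⟩ :=
    fun w hw => congrArg (fun v => vl v w hw) hs
  exact ⟨s, fun w hw => ⟨(nin w hw).2, hv w hw⟩,
    RelProjK.isGen_of_frac hOn τ.U τ.hA τ.hB τ.hd (Dp_le τ.U _) nin s hv⟩

/-- The section `A / B`. -/
def Datum.sec : Γ(On, τ.Wp p chart) := (τ.exists_sec hOn).choose

/-- The generator of the restriction of `O(n)`. -/
def Datum.genM : Γ(On.restrict g, τ.V) :=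
  show Γ(On, g ''ᵁ τ.V) from mres On (τ.image_le_Wp hg hPL le_rfl) (τ.sec hOn)

theorem Datum.isGen_genM : IsGen (On.restrict g) τ.V (τ.genM hg hPL hOn) :=
  InvExt.isGen_restrict g On ((τ.exists_sec hOn).choose_spec.2.restrict _)

include hP in
theorem exists_common (τ τ' : Datum hLq hj u φ n) {W : X.Opens} (hW : W ≤ τ.V) (hW' : W ≤ τ'.V) {w : X} (hw : w ∈ W) :
    ∃ (W' : X.Opens) (hle : W' ≤ W), w ∈ W' ∧ ∃ r : Γ(X, W'),
      mres (c.twist n) hle (mres (c.twist n) hW' τ'.genL) = r • mres (c.twist n) hle (mres (c.twist n) hW τ.genL) ∧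
      mres (On.restrict g) hle (mres (On.restrict g) hW' (τ'.genM hg hPL hOn)) =
        r • mres (On.restrict g) hle (mres (On.restrict g) hW (τ.genM hg hPL hOn)) := by
  obtain ⟨f, f', hff, hwf⟩ := exists_basicOpen_le_affine_inter τ.U.2 τ'.U.2 (q w) ⟨τ.hVU (hW hw), τ'.hVU (hW' hw)⟩
  let E : Y.AffineZariskiSite := τ.U.basicOpen f
  have hE : E ≤ τ.U := ⟨f, rfl⟩
  have hE' : E ≤ τ'.U := ⟨f', hff.symm⟩
  obtain ⟨V, hV, hwV, hVle⟩ := exists_isAffineOpen_mem_and_subset (x := w) (U := W ⊓ q ⁻¹ᵁ E.1) ⟨hw, hwf⟩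
  have hVW : V ≤ W := fun z hz => (hVle hz).1
  have hVE : V ≤ q ⁻¹ᵁ E.1 := fun z hz => (hVle hz).2
  refine ⟨V, hVW, hwV, ?_⟩
  have hi : V ≤ c.D τ.i := (hVW.trans hW).trans τ.hVi
  have hk : V ≤ c.D τ'.i := (hVW.trans hW').trans τ'.hVi
  let G : Γ(X, V) := c.G τ.i τ'.i hi hk
  let Ψ : 𝒮.presheaf.obj (op E.1) →+* Γ(X, V) := psi hLq hj u E (ctriv φ τ.i hi hV) hVE
  have hΨ : ∀ (d : ℕ) (z : 𝒮.presheaf.obj (op τ.U.1)), z ∈ dg 𝒮 τ.U d → Ψ (rs 𝒮 hE z) =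
      res (hVW.trans hW) (psi hLq hj u τ.U (ctriv φ τ.i τ.hVi τ.hV) τ.hVU z) := fun d z hz =>
    psi_sub hLq hj u φ hE τ.hV hV (hVW.trans hW) τ.hVU hVE τ.i τ.hVi hz
  have hΨ' : ∀ (d : ℕ) (z : 𝒮.presheaf.obj (op τ'.U.1)), z ∈ dg 𝒮 τ'.U d → Ψ (rs 𝒮 hE' z) =
      res (hVW.trans hW') (psi hLq hj u τ'.U (ctriv φ τ'.i τ'.hVi τ'.hV) τ'.hVU z) * G ^ d := fun d z hz => by
    refine (psi_change hLq hj u φ E hV hVE τ.i τ'.i hi hk (RelProjK.rs 𝒮 hE' |>.map_mem hz)).trans ?_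
    exact congrArg (· * G ^ d) (psi_sub hLq hj u φ hE' τ'.hV hV (hVW.trans hW') τ'.hVU hVE τ'.i τ'.hVi hz)
  let A₁ := rs 𝒮 hE τ.A
  let B₁ := rs 𝒮 hE τ.B
  let A₂ := rs 𝒮 hE' τ'.A
  let B₂ := rs 𝒮 hE' τ'.B
  have hu1 : IsUnit (Ψ A₁) := by rw [hΨ _ _ τ.hA]; exact τ.uA.map _
  have hu2 : IsUnit (Ψ B₂) := by
    rw [hΨ' _ _ τ'.hB]
    exact (τ'.uB.map _).mul ((c.isUnit_G τ.i τ'.i hi hk).pow _)
  have hu' : IsUnit (Ψ (A₁ * B₂)) := by rw [map_mul]; exact hu1.mul hu2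
  have hWd : g ''ᵁ V ≤ Dp p chart E (A₁ * B₂) := by
    rintro _ ⟨x, hx, rfl⟩
    exact le_preimage_Dp hLq hj u hg hPL E (ctriv φ τ.i hi hV) hVE (Nat.add_pos_right _ τ'.hb)
      (SetLike.mul_mem_graded ((rs 𝒮 hE).map_mem τ.hA) ((rs 𝒮 hE').map_mem τ'.hB)) hu' hx
  obtain ⟨r, hr, hrm⟩ := exists_transition hLq hj u hg hP hOn hPL E (ctriv φ τ.i hi hV) hVE τ'.hb τ.hd τ'.hd
    ((rs 𝒮 hE).map_mem τ.hA) ((rs 𝒮 hE).map_mem τ.hB) ((rs 𝒮 hE').map_mem τ'.hA) ((rs 𝒮 hE').map_mem τ'.hB) hu'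
    (hWd.trans (Dp_le E _)) hWd (g.preimage_image_eq V).ge
    (((τ.exists_sec hOn).choose_spec.1.mono (τ.image_le_Wp hg hPL (hVW.trans hW))).res hP hOn hE)
    (((τ'.exists_sec hOn).choose_spec.1.mono (τ'.image_le_Wp hg hPL (hVW.trans hW'))).res hP hOn hE')
  let r₀ : Γ(X, V) := (g.appLE (g ''ᵁ V) V (g.preimage_image_eq V).ge).hom r
  refine ⟨r₀, ?_, ?_⟩
  · rw [InvExt.mres_mres, InvExt.mres_mres, Datum.genL, Datum.genL, Ample.mres_smul', Ample.mres_smul']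
    show res _ τ'.ratio • c.sectRes (hVW.trans hW') (c.base n τ'.i τ'.hVi) =
      r₀ • res _ τ.ratio • c.sectRes (hVW.trans hW) (c.base n τ.i τ.hVi)
    rw [c.sectRes_base, c.sectRes_base, c.base_eq_smul_base n τ.i τ'.i hi hk, smul_smul, smul_smul]
    congr 1
    have e1 : res (hVW.trans hW) τ.ratio * Ψ B₁ = Ψ A₁ := by
      rw [show Ψ A₁ = res (hVW.trans hW) τ.pA from hΨ _ _ τ.hA, show Ψ B₁ = res (hVW.trans hW) τ.pB from hΨ _ _ τ.hB,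
        ← map_mul, τ.ratio_mul]
    have e2 : res (hVW.trans hW') τ'.ratio * G ^ n * Ψ B₂ = Ψ A₂ := by
      rw [show Ψ A₂ = res (hVW.trans hW') τ'.pA * G ^ τ'.a from hΨ' _ _ τ'.hA,
        show Ψ B₂ = res (hVW.trans hW') τ'.pB * G ^ τ'.b from hΨ' _ _ τ'.hB,
        mul_mul_mul_comm, ← map_mul, τ'.ratio_mul, ← pow_add]
      congr 2
      have := τ'.hd
      omega
    have e3 : r₀ * (Ψ A₁ * Ψ B₂) = Ψ A₂ * Ψ B₁ := by
      rw [← map_mul Ψ, ← map_mul Ψ]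
      exact hrm
    refine (hu1.mul hu2).mul_left_injective ?_
    show res (hVW.trans hW') τ'.ratio * G ^ n * (Ψ A₁ * Ψ B₂) = r₀ * res (hVW.trans hW) τ.ratio * (Ψ A₁ * Ψ B₂)
    linear_combination Ψ A₁ * e2 - Ψ A₂ * e1 - res (hVW.trans hW) τ.ratio * e3
  · rw [InvExt.mres_mres, InvExt.mres_mres, InvExt.restrict_mres, InvExt.restrict_mres, InvExt.restrict_smul]
    unfold Datum.genM
    simp only [InvExt.mres_mres]
    have e : (g.appIso V).inv r₀ = r := by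
      rw [show r₀ = (g.appIso V).hom r by rw [Scheme.Hom.appIso_hom']]
      exact congr($((g.appIso V).hom_inv_id) r)
    rw [e]
    exact hr

include hL hLq hj hu φ hg hPL hP hOn in
theorem nonempty_pullback_iso (h : RelAmple.IsRelAmple q L) :
    Nonempty ((Scheme.Modules.pullback g).obj On ≅ c.twist n) := by
  choose τ hτ using exists_datum hL hLq hj u φ n hu h
  let D : X → X.Opens := fun x => (τ x).V
  have hD : ⨆ x, D x = ⊤ := eq_top_iff.mpr fun x _ => Opens.mem_iSup.mpr ⟨x, hτ x⟩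
  let tL : ∀ x, Γ(c.twist n, D x) := fun x => (τ x).genL
  let tM : ∀ x, Γ(On.restrict g, D x) := fun x => (τ x).genM hg hPL hOn
  have gL : ∀ x, IsGen (c.twist n) (D x) (tL x) := fun x => (τ x).isGen_genL
  have gM : ∀ x, IsGen (On.restrict g) (D x) (tM x) := fun x => (τ x).isGen_genM hg hPL hOn
  obtain ⟨f, hf⟩ := VA.exists_hom_of_gens D hD tL gL tM fun x z W hx hz a e =>
    transfer _ _ ((gL x).restrict hx) _ _ (fun w hw => exists_common hg hPL hP hOn (τ x) (τ z) hx hz hw) a e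
  obtain ⟨f', hf'⟩ := VA.exists_hom_of_gens D hD tM gM tL fun x z W hx hz a e =>
    transfer _ _ ((gM x).restrict hx) _ _ (fun w hw =>
      let ⟨W', hle, hwW, r, h1, h2⟩ := exists_common hg hPL hP hOn (τ x) (τ z) hx hz hw
      ⟨W', hle, hwW, r, h2, h1⟩) a e
  have e1 : f ≫ f' = 𝟙 _ := VA.hom_ext_of_gens D hD tL gL fun x => by
    show f'.app (D x) (f.app (D x) (tL x)) = tL x
    rw [hf, hf']
  have e2 : f' ≫ f = 𝟙 _ := VA.hom_ext_of_gens D hD tM gM fun x => by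
    show f.app (D x) (f'.app (D x) (tM x)) = tM x
    rw [hf', hf]
  exact ⟨((Scheme.Modules.restrictFunctorIsoPullback g).app On).symm ≪≫ ⟨f', f, e2, e1⟩⟩

omit [IsOpenImmersion g] in
include hL hu hLq hj hPL hP hOn in
theorem nonempty_pullback_iso_tensorPow {r : ((RelProj.domQ u pL chartL : PL.Opens) : Scheme.{u}) ⟶ P}
    (hr : RelProj.IsProjQMapOn u p chart pL chartL (RelProj.domQ u pL chartL) r) (h : RelAmple.IsRelAmple q L) :
    Nonempty ((Scheme.Modules.pullback r).obj On ≅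
      (Scheme.Modules.pullback ((RelProj.domQ u pL chartL).ι ≫ pL)).obj (CohB1.tensorPow L n)) := by
  obtain ⟨htop, hri, -⟩ := isOpenImmersion_isDominant_of_isRelAmple hL hLq hj u hu hP hPL hr h
  haveI := isIso_relProj hLq hj hPL hL
  haveI : IsIso (RelProj.domQ u pL chartL).ι := by rw [htop, ← Scheme.topIso_hom]; infer_instance
  let k := (RelProj.domQ u pL chartL).ι ≫ pL
  let g' := inv k ≫ r
  have e : k ≫ g' = r := IsIso.hom_inv_id_assoc k r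
  haveI : IsOpenImmersion g' := inferInstanceAs (IsOpenImmersion (inv k ≫ r))
  obtain ⟨c', ⟨φ'⟩⟩ := Ample.exists_cocycle hL
  obtain ⟨d⟩ := c'.nonempty_tensorPow_iso φ' n
  obtain ⟨d'⟩ := nonempty_pullback_iso (hLq := hLq) (hj := hj) hL hu (g := g')
    (φ := φ') (hg := by rw [← Category.assoc, e]; exact hr) hPL hP hOn h
  exact ⟨(Scheme.Modules.pullbackCongr e.symm).app On ≪≫ ((Scheme.Modules.pullbackComp k g').app On).symm ≪≫
    (Scheme.Modules.pullback k).mapIso (d' ≪≫ d.symm)⟩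

end GrothLib.RLample8
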